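import Mathlib
import Cfsg.Agent.Lib.Helper16.KSH.Defs

/-!
# Project KSH (helper16), module [QQ] (helper55)
-/

set_option autoImplicit false

namespace Cfsg.Agent.Lib.Helper16.KSH

universe u

variable {G : Type u} [Group G] [Fintype G]

/-- `|G| ∣ qq p G * m` where `m` is the `p'`-part of `|G|`. -/
theorem card_dvd_qq_mul_h55 (p : ℕ) [Fact p.Prime] (G : Type u) [Group G] [Fintype G] :
    Fintype.card G ∣ qq p G * ordCompl[p] (Fintype.card G) := by
  have hmul : p ^ (Fintype.card G).factorization p * ordCompl[p] (Fintype.card G) = Fintype.card G :=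
    Nat.ordProj_mul_ordCompl_eq_self _ p
  have hm0 : ordCompl[p] (Fintype.card G) ≠ 0 := by
    intro h
    rw [h, mul_zero] at hmul
    exact Fintype.card_ne_zero hmul.symm
  have hφ : 0 < Nat.totient (ordCompl[p] (Fintype.card G)) := Nat.totient_pos.mpr (Nat.pos_of_ne_zero hm0)
  have hle : (Fintype.card G).factorization p ≤
      Nat.totient (ordCompl[p] (Fintype.card G)) * ((Fintype.card G).factorization p + 1) := by
    nlinarith
  have h1 : p ^ (Fintype.card G).factorization p ∣ qq p G := by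
    unfold qq
    exact pow_dvd_pow p hle
  calc Fintype.card G = p ^ (Fintype.card G).factorization p * ordCompl[p] (Fintype.card G) := hmul.symm
    _ ∣ qq p G * ordCompl[p] (Fintype.card G) := Nat.mul_dvd_mul_right h1 _

/-- **[QQ]** `g ^ qq p G` is `p`-regular. -/
theorem not_dvd_orderOf_pow_qq (p : ℕ) [Fact p.Prime] (g : G) : ¬ p ∣ orderOf (g ^ qq p G) := by
  have hp : p.Prime := Fact.out
  have h1 : (g ^ qq p G) ^ ordCompl[p] (Fintype.card G) = 1 := by
    rw [← pow_mul]
    obtain ⟨c, hc⟩ := card_dvd_qq_mul_h55 p G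
    rw [hc, pow_mul, pow_card_eq_one, one_pow]
  have h2 : orderOf (g ^ qq p G) ∣ ordCompl[p] (Fintype.card G) := orderOf_dvd_of_pow_eq_one h1
  intro h3
  exact (Nat.not_dvd_ordCompl hp Fintype.card_ne_zero) (h3.trans h2)

/-- **[QQ]** `g ^ qq p G = g` for `p`-regular `g`. -/
theorem pow_qq_of_reg (p : ℕ) [Fact p.Prime] (g : G) (hg : ¬ p ∣ orderOf g) : g ^ qq p G = g := by
  have hp : p.Prime := Fact.out
  set n := Fintype.card G with hn
  set m := ordCompl[p] n with hm
  have hmul : p ^ n.factorization p * m = n := Nat.ordProj_mul_ordCompl_eq_self _ p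
  have hcop : Nat.Coprime (orderOf g) p := ((Nat.Prime.coprime_iff_not_dvd hp).mpr hg).symm
  have hdvd : orderOf g ∣ m := by
    have h1 : orderOf g ∣ p ^ n.factorization p * m := by rw [hmul]; exact orderOf_dvd_card
    exact (Nat.Coprime.pow_right _ hcop).dvd_of_dvd_mul_left h1
  have hpm : Nat.Coprime p m := Nat.coprime_ordCompl hp Fintype.card_ne_zero
  have h1 : p ^ Nat.totient m ≡ 1 [MOD m] := Nat.ModEq.pow_totient hpm
  have h2 : qq p G ≡ 1 [MOD m] := by
    unfold qq
    rw [pow_mul]
    have := h1.pow (n.factorization p + 1)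
    rwa [one_pow] at this
  have h3 : qq p G ≡ 1 [MOD orderOf g] := h2.of_dvd hdvd
  have := (pow_eq_pow_iff_modEq (x := g)).mpr h3
  rwa [pow_one] at this

end Cfsg.Agent.Lib.Helper16.KSH
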