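import Mathlib
import Cfsg.Agent.Lib.Helper25.KshComm

/-!
# Project KSH (helper16), module [COMM]: exact Skel name (one-line wrapper over helper25's `H25.mem_commSpace_iff`)
-/

set_option autoImplicit false

namespace Cfsg.Agent.Lib.Helper16.KSH

open Cfsg Cfsg.Agent.Lib.Helper41.PIM

universe u

variable {G : Type u} [Group G] [Fintype G]

/-- **[COMM]** -/
theorem mem_commSpace_iff {k : Type*} [Field k] (a : MonoidAlgebra k G) :
    a ∈ commSpace k (MonoidAlgebra k G) ↔ ∀ x : G, sumOn (clsSet x) a = 0 :=
  H25.mem_commSpace_iff a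

end Cfsg.Agent.Lib.Helper16.KSH
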