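import Mathlib
import Cfsg.Agent.Lib.Helper75.PIMSing
import Cfsg.Agent.Lib.Helper16.KSH.Defs

/-!
# Project KSH (helper16), module [MAT] (helper55): commutator spaces of products of matrix algebras

NOTE: helper61 landed the exact Skel names first (Lib/Helper61/KshMat.lean); the four statements here carry
the suffix `_h55` to avoid a duplicate declaration.
-/

set_option autoImplicit false

namespace Cfsg.Agent.Lib.Helper16.KSH

open Matrix

variable {k : Type*} [Field k]

theorem comm_mem_commSpace_h55 {A : Type*} [Ring A] [Algebra k A] (a b : A) :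
    a * b - b * a ∈ commSpace k A :=
  Submodule.subset_span ⟨a, b, rfl⟩

theorem single_mem_commSpace_of_ne_h55 {n : ℕ} (i j : Fin n) (h : i ≠ j) (c : k) :
    Matrix.single i j c ∈ commSpace k (Matrix (Fin n) (Fin n) k) := by
  have h1 : Matrix.single i j c =
      Matrix.single i i (1 : k) * Matrix.single i j c - Matrix.single i j c * Matrix.single i i (1 : k) := by
    rw [Matrix.single_mul_single_same, Matrix.single_mul_single_of_ne c i j i h.symm, one_mul, sub_zero]
  rw [h1]
  exact comm_mem_commSpace_h55 _ _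

theorem single_sub_single_mem_commSpace_h55 {n : ℕ} (i j : Fin n) (c : k) :
    Matrix.single i i c - Matrix.single j j c ∈ commSpace k (Matrix (Fin n) (Fin n) k) := by
  have h1 : Matrix.single i i c - Matrix.single j j c =
      Matrix.single i j c * Matrix.single j i (1 : k) - Matrix.single j i (1 : k) * Matrix.single i j c := by
    rw [Matrix.single_mul_single_same, Matrix.single_mul_single_same, one_mul, mul_one]
  rw [h1]
  exact comm_mem_commSpace_h55 _ _

/-- the commutator space lies in the kernel of the trace -/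
theorem trace_eq_zero_of_mem_commSpace_h55 {n : ℕ} (x : Matrix (Fin n) (Fin n) k)
    (hx : x ∈ commSpace k (Matrix (Fin n) (Fin n) k)) : Matrix.trace x = 0 := by
  have hle : commSpace k (Matrix (Fin n) (Fin n) k) ≤
      LinearMap.ker (Matrix.traceLinearMap (Fin n) k k) := by
    unfold commSpace
    rw [Submodule.span_le]
    rintro _ ⟨a, b, rfl⟩
    rw [SetLike.mem_coe, LinearMap.mem_ker, Matrix.traceLinearMap_apply, Matrix.trace_sub,
      Matrix.trace_mul_comm, sub_self]
  have := hle hx
  rwa [LinearMap.mem_ker, Matrix.traceLinearMap_apply] at this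

/-- a trace zero matrix is a sum of commutators -/
theorem mem_commSpace_of_trace_eq_zero_h55 {n : ℕ} (x : Matrix (Fin n) (Fin n) k)
    (hx : Matrix.trace x = 0) : x ∈ commSpace k (Matrix (Fin n) (Fin n) k) := by
  rcases Nat.eq_zero_or_pos n with hn | hn
  · subst hn
    have : x = 0 := by ext i; exact i.elim0
    rw [this]; exact Submodule.zero_mem _
  set i0 : Fin n := ⟨0, hn⟩ with hi0
  set E : Matrix (Fin n) (Fin n) k := Matrix.single i0 i0 1 with hE
  have h1 : ∑ i, ∑ j, x i j • Matrix.single i j (1 : k) = x := by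
    conv_rhs => rw [Matrix.matrix_eq_sum_single x]
    refine Finset.sum_congr rfl fun i _ => Finset.sum_congr rfl fun j _ => ?_
    rw [Matrix.smul_single, smul_eq_mul, mul_one]
  have h2 : ∑ i, ∑ j, x i j • (if i = j then E else 0) = Matrix.trace x • E := by
    have : ∀ i : Fin n, ∑ j, x i j • (if i = j then E else 0) = x i i • E := by
      intro i
      rw [Finset.sum_eq_single i]
      · rw [if_pos rfl]
      · intro j _ hj
        rw [if_neg (Ne.symm hj), smul_zero]
      · intro h; exact absurd (Finset.mem_univ i) h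
    simp_rw [this]
    rw [← Finset.sum_smul]
    rfl
  have key : x = ∑ i, ∑ j, x i j • (Matrix.single i j (1 : k) - if i = j then E else 0) := by
    simp_rw [smul_sub, Finset.sum_sub_distrib]
    rw [h1, h2, hx, zero_smul, sub_zero]
  rw [key]
  refine Submodule.sum_mem _ fun i _ => Submodule.sum_mem _ fun j _ => Submodule.smul_mem _ _ ?_
  by_cases hij : i = j
  · subst hij
    rw [if_pos rfl]
    exact single_sub_single_mem_commSpace_h55 i i0 1
  · rw [if_neg hij, sub_zero]
    exact single_mem_commSpace_of_ne_h55 i j hij 1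

theorem mem_commSpace_matrix_iff_h55 {n : ℕ} (x : Matrix (Fin n) (Fin n) k) :
    x ∈ commSpace k (Matrix (Fin n) (Fin n) k) ↔ Matrix.trace x = 0 :=
  ⟨trace_eq_zero_of_mem_commSpace_h55 x, mem_commSpace_of_trace_eq_zero_h55 x⟩

/-- the family of traces as a linear map -/
noncomputable def trPi_h55 {r : ℕ} (d : Fin r → ℕ) :
    (Π i, Matrix (Fin (d i)) (Fin (d i)) k) →ₗ[k] (Fin r → k) :=
  LinearMap.pi fun i => (Matrix.traceLinearMap (Fin (d i)) k k) ∘ₗ LinearMap.proj i

theorem trPi_apply_h55 {r : ℕ} (d : Fin r → ℕ) (s : Π i, Matrix (Fin (d i)) (Fin (d i)) k) (i : Fin r) :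
    trPi_h55 d s i = Matrix.trace (s i) := rfl

/-- **[MAT]** -/
theorem mem_commSpace_pi_matrix_iff_h55 {k : Type*} [Field k] {r : ℕ} (d : Fin r → ℕ)
    (s : Π i, Matrix (Fin (d i)) (Fin (d i)) k) :
    s ∈ commSpace k (Π i, Matrix (Fin (d i)) (Fin (d i)) k) ↔ ∀ i, Matrix.trace (s i) = 0 := by
  classical
  constructor
  · intro hs
    have hle : commSpace k (Π i, Matrix (Fin (d i)) (Fin (d i)) k) ≤ LinearMap.ker (trPi_h55 d) := by
      unfold commSpace
      rw [Submodule.span_le]
      rintro _ ⟨a, b, rfl⟩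
      rw [SetLike.mem_coe, LinearMap.mem_ker]
      funext i
      rw [trPi_apply_h55]
      show Matrix.trace (a i * b i - b i * a i) = 0
      rw [Matrix.trace_sub, Matrix.trace_mul_comm, sub_self]
    have := hle hs
    rw [LinearMap.mem_ker] at this
    intro i
    have h2 := congrFun this i
    rwa [trPi_apply_h55] at h2
  · intro hs
    have hsum : s = ∑ i, Pi.single i (s i) := (Finset.univ_sum_single s).symm
    rw [hsum]
    refine Submodule.sum_mem _ fun i _ => ?_
    have hi : s i ∈ commSpace k (Matrix (Fin (d i)) (Fin (d i)) k) :=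
      mem_commSpace_of_trace_eq_zero_h55 _ (hs i)
    have hle : (commSpace k (Matrix (Fin (d i)) (Fin (d i)) k)).map
        (LinearMap.single k (fun i => Matrix (Fin (d i)) (Fin (d i)) k) i) ≤
        commSpace k (Π i, Matrix (Fin (d i)) (Fin (d i)) k) := by
      unfold commSpace
      rw [Submodule.map_span, Submodule.span_le]
      rintro _ ⟨_, ⟨a, b, rfl⟩, rfl⟩
      apply Submodule.subset_span
      refine ⟨Pi.single i a, Pi.single i b, ?_⟩
      rw [LinearMap.coe_single, Pi.single_sub, Pi.single_mul, Pi.single_mul]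
    exact hle (Submodule.mem_map_of_mem hi)

theorem single_diag_pow_h55 {n : ℕ} (i : Fin n) (c : k) (m : ℕ) :
    (Matrix.single i i c) ^ (m + 1) = Matrix.single i i (c ^ (m + 1)) := by
  induction m with
  | zero => simp
  | succ m ih => rw [pow_succ, ih, Matrix.single_mul_single_same, ← pow_succ]

theorem single_offdiag_pow_h55 {n : ℕ} (i j : Fin n) (h : i ≠ j) (c : k) (m : ℕ) (hm : 2 ≤ m) :
    (Matrix.single i j c) ^ m = 0 := by
  obtain ⟨t, rfl⟩ := Nat.exists_eq_add_of_le hm
  rw [pow_add, pow_two, Matrix.single_mul_single_of_ne c i j i h.symm, zero_mul]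

theorem matrix_trace_pow_char_h55 {k : Type*} [Field k] (p : ℕ) [Fact p.Prime] [CharP k p] {n : ℕ}
    (x : Matrix (Fin n) (Fin n) k) : Matrix.trace (x ^ p) = Matrix.trace x ^ p := by
  classical
  have hp : p.Prime := Fact.out
  have hk : ∀ c : k, p • c = 0 := by
    intro c
    rw [nsmul_eq_mul, CharP.cast_eq_zero, zero_mul]
  have hτ : ∀ a b : Matrix (Fin n) (Fin n) k,
      Matrix.traceAddMonoidHom (Fin n) k (a * b) = Matrix.traceAddMonoidHom (Fin n) k (b * a) := by
    intro a b
    simp only [Matrix.traceAddMonoidHom_apply]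
    exact Matrix.trace_mul_comm a b
  have hx : x = ∑ ij : Fin n × Fin n, Matrix.single ij.1 ij.2 (x ij.1 ij.2) := by
    rw [Fintype.sum_prod_type]
    exact Matrix.matrix_eq_sum_single x
  have h1 := Cfsg.Agent.Lib.Helper75.PIM.trace_sum_pow p hk (Matrix.traceAddMonoidHom (Fin n) k) hτ
    (fun ij : Fin n × Fin n => Matrix.single ij.1 ij.2 (x ij.1 ij.2))
  rw [← hx] at h1
  simp only [Matrix.traceAddMonoidHom_apply] at h1
  rw [h1, Fintype.sum_prod_type]
  have h2 : ∀ i : Fin n, ∑ j, Matrix.trace ((Matrix.single i j (x i j)) ^ p) = (x i i) ^ p := by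
    intro i
    rw [Finset.sum_eq_single i]
    · obtain ⟨m, hm⟩ := Nat.exists_eq_succ_of_ne_zero hp.ne_zero
      rw [hm, single_diag_pow_h55, Matrix.trace_single_eq_same]
    · intro j _ hj
      rw [single_offdiag_pow_h55 i j (Ne.symm hj) _ p hp.two_le, Matrix.trace_zero]
    · intro h; exact absurd (Finset.mem_univ i) h
  simp_rw [h2]
  rw [Matrix.trace, sum_pow_char]
  rfl

theorem matrix_trace_pow_char_pow_h55 (p : ℕ) [Fact p.Prime] [CharP k p] {n : ℕ}
    (x : Matrix (Fin n) (Fin n) k) (e : ℕ) :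
    Matrix.trace (x ^ p ^ e) = Matrix.trace x ^ p ^ e := by
  induction e with
  | zero => simp
  | succ e ih => rw [pow_succ, pow_mul, matrix_trace_pow_char_h55, ih, ← pow_mul]

theorem mem_commSpace_pi_matrix_of_pow_h55 {k : Type*} [Field k] (p : ℕ) [Fact p.Prime] [CharP k p] {r : ℕ}
    (d : Fin r → ℕ) (s : Π i, Matrix (Fin (d i)) (Fin (d i)) k) (e : ℕ)
    (hs : s ^ p ^ e ∈ commSpace k (Π i, Matrix (Fin (d i)) (Fin (d i)) k)) :
    s ∈ commSpace k (Π i, Matrix (Fin (d i)) (Fin (d i)) k) := by
  rw [mem_commSpace_pi_matrix_iff_h55] at hs ⊢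
  intro i
  have h1 := hs i
  rw [Pi.pow_apply, matrix_trace_pow_char_pow_h55] at h1
  exact pow_eq_zero_iff (pow_ne_zero _ (Fact.out : p.Prime).ne_zero) |>.mp h1

theorem finrank_quot_commSpace_pi_matrix_h55 {k : Type*} [Field k] {r : ℕ} (d : Fin r → ℕ) (hd : ∀ i, NeZero (d i)) :
    Module.finrank k ((Π i, Matrix (Fin (d i)) (Fin (d i)) k) ⧸
      commSpace k (Π i, Matrix (Fin (d i)) (Fin (d i)) k)) = r := by
  classical
  have hker : LinearMap.ker (trPi_h55 (k := k) d) = commSpace k (Π i, Matrix (Fin (d i)) (Fin (d i)) k) := by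
    ext s
    rw [LinearMap.mem_ker, mem_commSpace_pi_matrix_iff_h55]
    constructor
    · intro h i
      have := congrFun h i
      rwa [trPi_apply_h55] at this
    · intro h
      funext i
      rw [trPi_apply_h55]; exact h i
  have hsurj : Function.Surjective (trPi_h55 (k := k) d) := by
    intro c
    refine ⟨fun i => Matrix.single (⟨0, Nat.pos_of_ne_zero (hd i).out⟩ : Fin (d i)) ⟨0, Nat.pos_of_ne_zero (hd i).out⟩ (c i), ?_⟩
    funext i
    rw [trPi_apply_h55, Matrix.trace_single_eq_same]
  have e1 := (trPi_h55 (k := k) d).quotKerEquivOfSurjective hsurj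
  have e2 := Submodule.quotEquivOfEq _ _ hker
  rw [← LinearEquiv.finrank_eq e2, LinearEquiv.finrank_eq e1, Module.finrank_fin_fun]

end Cfsg.Agent.Lib.Helper16.KSH
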