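import Mathlib
import Cfsg.Agent.Lib.Helper16.KSH.Defs

/-!
# Project KSH (helper16), module [QUOT] (helper55)
-/

set_option autoImplicit false

namespace Cfsg.Agent.Lib.Helper16.KSH

/-- **[QUOT]** a surjective algebra map carries the commutator space onto the commutator space. -/
theorem map_commSpace_of_surjective {k : Type*} [Field k] {A S : Type*} [Ring A] [Algebra k A] [Ring S] [Algebra k S]
    (π : A →ₐ[k] S) (hπ : Function.Surjective π) :
    (commSpace k A).map π.toLinearMap = commSpace k S := by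
  unfold commSpace
  rw [Submodule.map_span]
  congr 1
  ext c
  constructor
  · rintro ⟨_, ⟨a, b, rfl⟩, rfl⟩
    refine ⟨π a, π b, ?_⟩
    simp
  · rintro ⟨s, t, rfl⟩
    obtain ⟨a, rfl⟩ := hπ s
    obtain ⟨b, rfl⟩ := hπ t
    refine ⟨a * b - b * a, ⟨a, b, rfl⟩, ?_⟩
    simp

end Cfsg.Agent.Lib.Helper16.KSH
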